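import Mathlib
import Cfsg.Agent.Lib.Helper99.Quad

set_option autoImplicit false

namespace Cfsg.Agent.Lib.Helper99

open Module QuadraticMap

section quad2
variable {F V : Type*} [Field F] [AddCommGroup V] [Module F V]

/-- Two quadratic forms agreeing on a basis, with polar forms agreeing on distinct pairs of
basis vectors, are equal. -/
theorem quad_ext_basis {ι : Type*} (b : Basis ι F V) (Q1 Q2 : QuadraticForm F V)
    (h1 : ∀ i, Q1 (b i) = Q2 (b i))
    (h2 : ∀ i j, i ≠ j → polar Q1 (b i) (b j) = polar Q2 (b i) (b j)) : Q1 = Q2 := by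
  classical
  let _ : LinearOrder ι := IsWellOrder.linearOrder WellOrderingRel
  rw [← toQuadraticMap_toBilin Q1 b, ← toQuadraticMap_toBilin Q2 b]
  congr 1
  refine b.ext fun i => b.ext fun j => ?_
  rw [toBilin_apply, toBilin_apply, h1]
  by_cases hij : i = j
  · rw [if_pos hij, if_pos hij]
  · rw [if_neg hij, if_neg hij, h2 i j hij]

/-- A linear endomorphism scaling a nondegenerate quadratic form is invertible. -/
theorem equiv_of_similar [FiniteDimensional F V] (Q₁ Q₂ : QuadraticForm F V)
    (hQ₁ : Q₁.polarBilin.Nondegenerate) (c : F) (hc : c ≠ 0) (g0 : V →ₗ[F] V)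
    (h : ∀ v, Q₂ (g0 v) = c * Q₁ v) : ∃ g : V ≃ₗ[F] V, ∀ v, Q₂ (g v) = c * Q₁ v := by
  have hpol : ∀ u v, polar Q₂ (g0 u) (g0 v) = c * polar Q₁ u v := by
    intro u v
    simp only [polar, ← map_add, h]
    ring
  have hinj : Function.Injective g0 := by
    rw [← LinearMap.ker_eq_bot, LinearMap.ker_eq_bot']
    intro v hv
    apply hQ₁.1 v
    intro u
    have h1 := hpol v u
    rw [hv, polar_zero_left] at h1
    exact (mul_eq_zero.mp h1.symm).resolve_left hc
  exact ⟨LinearEquiv.ofInjectiveEndo g0 hinj, fun v => by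
    rw [LinearEquiv.coe_ofInjectiveEndo]; exact h v⟩

theorem gram_det_change {n : ℕ} (B : LinearMap.BilinForm F (Fin n → F))
    (b : Basis (Fin n) F (Fin n → F)) :
    ∃ p : F, (Matrix.of fun i j => B (b i) (b j)).det
      = p * p * (Matrix.of fun i j : Fin n => B (Pi.single i 1) (Pi.single j 1)).det := by
  refine ⟨((Pi.basisFun F (Fin n)).toMatrix b).det, ?_⟩
  have h := LinearMap.BilinForm.toMatrix_mul_basis_toMatrix (b := Pi.basisFun F (Fin n)) b B
  rw [LinearMap.BilinForm.toMatrix_basisFun] at h
  have h1 : Matrix.of (fun i j => B (b i) (b j)) = LinearMap.BilinForm.toMatrix b B := by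
    ext i j
    simp [LinearMap.BilinForm.toMatrix_apply]
  have h2 : Matrix.of (fun i j : Fin n => B (Pi.single i 1) (Pi.single j 1))
      = LinearMap.BilinForm.toMatrix' B := by
    ext i j
    simp [LinearMap.BilinForm.toMatrix'_apply]
  rw [h1, h2, ← h, Matrix.det_mul, Matrix.det_mul, Matrix.det_transpose]
  ring

section finite
variable [Fintype F]

theorem exists_norm_eq (ζ c : F) (hζ : ∀ t : F, t ^ 2 + t + ζ ≠ 0) :
    ∃ α β : F, α ^ 2 + α * β + ζ * β ^ 2 = c := by
  obtain ⟨x, hx, h⟩ := cw3 (fun i j => if i = 0 ∧ j = 0 then (1 : F) else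
    if i = 0 ∧ j = 1 then 1 else if i = 1 ∧ j = 1 then ζ else
    if i = 2 ∧ j = 2 then -c else 0)
  simp [Fin.sum_univ_three] at h
  by_cases hx2 : x 2 = 0
  · exfalso
    rw [hx2] at h
    by_cases hx1 : x 1 = 0
    · rw [hx1] at h
      have hx0 : x 0 = 0 := by simpa using h
      apply hx
      funext i
      fin_cases i
      · exact hx0
      · exact hx1
      · exact hx2
    · apply hζ (x 0 / x 1)
      field_simp
      linear_combination h
  · refine ⟨x 0 / x 2, x 1 / x 2, ?_⟩
    field_simp
    linear_combination h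

/-- Odd characteristic: orthogonal vectors of norm one plus one more vector. -/
theorem ortho_aux [FiniteDimensional F V] (h2 : (2 : F) ≠ 0) (Q : QuadraticForm F V) :
    ∀ (d : ℕ) (M : Submodule F V), finrank F M ≤ d → QNondegOn Q M → M ≠ ⊥ →
      ∃ (k : ℕ) (u : Fin k → V) (y : V), (∀ i, u i ∈ M) ∧ y ∈ M ∧ (∀ i, Q (u i) = 1) ∧
        Q y ≠ 0 ∧ (∀ i j, i ≠ j → polar Q (u i) (u j) = 0) ∧ (∀ i, polar Q (u i) y = 0) ∧
        (∀ m ∈ M, ∃ (a : Fin k → F) (c : F), m = ∑ i, a i • u i + c • y) := by
  intro d
  induction d with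
  | zero =>
    intro M hd _ hM0
    exact absurd (Submodule.finrank_eq_zero.mp (by omega)) hM0
  | succ d ih =>
    intro M hd hM hM0
    by_cases hM2 : 2 ≤ finrank F M
    · obtain ⟨x, hx, hQx⟩ := exists_repr_of_nondeg Q M hM hM2 1
      have hxx : polar Q x x = 2 := by
        rw [polar_self, hQx]; simp
      have hdec : ∀ m ∈ M, ∃ m' ∈ M ⊓ qperp Q x x, ∃ α : F, m = m' + α • x := by
        intro m hm
        refine ⟨m - (polar Q m x / 2) • x, ?_, polar Q m x / 2, by abel⟩
        refine Submodule.mem_inf.mpr ⟨M.sub_mem hm (M.smul_mem _ hx), ?_⟩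
        rw [mem_qperp, polar_sub_left, polar_smul_left, hxx, smul_eq_mul,
          div_mul_cancel₀ _ h2, sub_self]
        exact ⟨rfl, rfl⟩
      set M' := M ⊓ qperp Q x x with hM'def
      have hpM' : ∀ y ∈ M', polar Q y x = 0 := fun y hy =>
        ((mem_qperp Q x x y).mp (Submodule.mem_inf.mp hy).2).1
      have hlt : M' < M := by
        refine lt_of_le_of_ne inf_le_left ?_
        intro heq
        have h1 : x ∈ M' := by rw [heq]; exact hx
        have h3 := hpM' x h1
        rw [hxx] at h3
        exact h2 h3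
      have hd' : finrank F M' ≤ d := by
        have h1 := Submodule.finrank_lt_finrank_of_lt hlt
        omega
      have hnd' : QNondegOn Q M' := by
        intro m hm hmv
        apply hM m (inf_le_left (a := M) hm)
        intro w hw
        obtain ⟨w', hw', α, rfl⟩ := hdec w hw
        rw [polar_add_right, polar_smul_right, hmv w' hw', hpM' m hm]
        simp
      have hM'0 : M' ≠ ⊥ := by
        intro h0
        have hle : M ≤ Submodule.span F {x} := by
          intro m hm
          obtain ⟨m', hm', α, rfl⟩ := hdec m hm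
          rw [h0, Submodule.mem_bot] at hm'
          rw [hm', zero_add]
          exact Submodule.smul_mem _ _ (Submodule.mem_span_singleton_self x)
        have h3 := Submodule.finrank_mono hle
        have hx0 : x ≠ 0 := by
          rintro rfl
          simp at hQx
        rw [finrank_span_singleton hx0] at h3
        omega
      obtain ⟨k, u, y, hu, hy, hQu, hQy, huu, huy, hspan⟩ := ih M' hd' hnd' hM'0
      refine ⟨k + 1, Fin.cons x u, y, ?_, inf_le_left (a := M) hy, ?_, hQy, ?_, ?_, ?_⟩
      · intro i
        rcases Fin.eq_zero_or_eq_succ i with rfl | ⟨i, rfl⟩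
        · simpa using hx
        · simpa using inf_le_left (a := M) (hu i)
      · intro i
        rcases Fin.eq_zero_or_eq_succ i with rfl | ⟨i, rfl⟩
        · simpa using hQx
        · simpa using hQu i
      · intro i j hij
        rcases Fin.eq_zero_or_eq_succ i with rfl | ⟨i, rfl⟩ <;>
          rcases Fin.eq_zero_or_eq_succ j with rfl | ⟨j, rfl⟩
        · exact absurd rfl hij
        · have h1 := hpM' (u j) (hu j)
          rw [polar_comm] at h1
          simpa using h1
        · simpa using hpM' (u i) (hu i)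
        · have hij' : i ≠ j := fun h => hij (by rw [h])
          simpa using huu i j hij'
      · intro i
        rcases Fin.eq_zero_or_eq_succ i with rfl | ⟨i, rfl⟩
        · have h1 := hpM' y hy
          rw [polar_comm] at h1
          simpa using h1
        · simpa using huy i
      · intro m hm
        obtain ⟨m', hm', α, rfl⟩ := hdec m hm
        obtain ⟨a, c, rfl⟩ := hspan m' hm'
        refine ⟨Fin.cons α a, c, ?_⟩
        simp only [Fin.sum_univ_succ, Fin.cons_zero, Fin.cons_succ]
        abel
    · have hM1 : finrank F M = 1 := by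
        have h1 : finrank F M ≠ 0 := fun h => hM0 (Submodule.finrank_eq_zero.mp h)
        omega
      obtain ⟨z, hz, hzs⟩ := exists_family_of_finrank M hM1
      have hy0 : z 0 ≠ 0 := hz.ne_zero 0
      have hyM : z 0 ∈ M := hzs ▸ Submodule.subset_span ⟨0, rfl⟩
      have hMspan : ∀ m ∈ M, ∃ c : F, m = c • z 0 := by
        intro m hm
        rw [← hzs, Set.range_unique] at hm
        obtain ⟨c, hc⟩ := Submodule.mem_span_singleton.mp hm
        exact ⟨c, hc.symm⟩
      have hQy : Q (z 0) ≠ 0 := by
        intro h0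
        apply hy0
        apply hM (z 0) hyM
        intro v hv
        obtain ⟨c, rfl⟩ := hMspan v hv
        rw [polar_smul_right, polar_self, h0]
        simp
      refine ⟨0, Fin.elim0, z 0, fun i => i.elim0, hyM, fun i => i.elim0, hQy,
        fun i => i.elim0, fun i => i.elim0, ?_⟩
      intro m hm
      obtain ⟨c, rfl⟩ := hMspan m hm
      exact ⟨Fin.elim0, c, by simp⟩

/-- Odd characteristic: an orthogonal basis with all but the first vector of norm one. -/
theorem ortho_basis [FiniteDimensional F V] (h2 : (2 : F) ≠ 0) (Q : QuadraticForm F V)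
    (hQ : Q.polarBilin.Nondegenerate) (hV : 0 < finrank F V) :
    ∃ (k : ℕ) (b : Basis (Fin (k + 1)) F V), Q (b 0) ≠ 0 ∧ (∀ i : Fin k, Q (b i.succ) = 1) ∧
      (∀ i j, i ≠ j → polar Q (b i) (b j) = 0) := by
  have hnd : QNondegOn Q ⊤ := fun u _ hu => hQ.1 u (fun v => hu v Submodule.mem_top)
  have htop : (⊤ : Submodule F V) ≠ ⊥ := by
    intro h
    have h1 : finrank F (⊤ : Submodule F V) = 0 := by rw [h]; simp
    rw [finrank_top] at h1
    omega
  obtain ⟨k, u, y, -, -, hQu, hQy, huu, huy, hspan⟩ :=
    ortho_aux h2 Q (finrank F (⊤ : Submodule F V)) ⊤ le_rfl hnd htop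
  have huu' : ∀ i j, polar Q (u i) (u j) = if i = j then 2 else 0 := by
    intro i j
    by_cases hij : i = j
    · subst hij
      rw [if_pos rfl, polar_self, hQu]; simp
    · rw [if_neg hij, huu i j hij]
  have hyu : ∀ i, polar Q y (u i) = 0 := fun i => by rw [polar_comm, huy]
  have hyy : polar Q y y ≠ 0 := by
    rw [polar_self]
    simpa using ⟨h2, hQy⟩
  set v : Fin (k + 1) → V := Fin.cons y u with hv
  have hli : LinearIndependent F v := by
    rw [Fintype.linearIndependent_iff]
    intro g hg
    simp only [Fin.sum_univ_succ, hv, Fin.cons_zero, Fin.cons_succ] at hg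
    have hA : g 0 = 0 := by
      have h1 := congrArg (fun m => Q.polarBilin m y) hg
      simp only [map_add, map_sum, map_smul, LinearMap.add_apply, LinearMap.sum_apply,
        LinearMap.smul_apply, polarBilin_apply_apply, smul_eq_mul, LinearMap.zero_apply,
        huy, mul_zero, Finset.sum_const_zero, add_zero, map_zero] at h1
      exact (mul_eq_zero.mp h1).resolve_right hyy
    have hB : ∀ j : Fin k, g j.succ = 0 := by
      intro j
      have h1 := congrArg (fun m => Q.polarBilin m (u j)) hg
      simp only [map_add, map_sum, map_smul, LinearMap.add_apply, LinearMap.sum_apply,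
        LinearMap.smul_apply, polarBilin_apply_apply, smul_eq_mul, LinearMap.zero_apply,
        huu', hyu, mul_zero, zero_add, mul_ite, Finset.sum_ite_eq', Finset.mem_univ, if_true,
        map_zero] at h1
      exact (mul_eq_zero.mp h1).resolve_right h2
    intro i
    rcases Fin.eq_zero_or_eq_succ i with rfl | ⟨i, rfl⟩
    · exact hA
    · exact hB i
  have hsp : ⊤ ≤ Submodule.span F (Set.range v) := by
    intro m _
    obtain ⟨a, c, rfl⟩ := hspan m Submodule.mem_top
    refine Submodule.add_mem _ ?_ ?_
    · exact Submodule.sum_mem _ fun i _ => Submodule.smul_mem _ _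
        (Submodule.subset_span ⟨i.succ, by simp [hv]⟩)
    · exact Submodule.smul_mem _ _ (Submodule.subset_span ⟨0, by simp [hv]⟩)
  refine ⟨k, Basis.mk hli hsp, ?_, ?_, ?_⟩
  · rw [Basis.mk_apply]
    simpa [hv] using hQy
  · intro i
    rw [Basis.mk_apply]
    simpa [hv] using hQu i
  · intro i j hij
    rw [Basis.mk_apply, Basis.mk_apply]
    rcases Fin.eq_zero_or_eq_succ i with rfl | ⟨i, rfl⟩ <;>
      rcases Fin.eq_zero_or_eq_succ j with rfl | ⟨j, rfl⟩
    · exact absurd rfl hij
    · simpa [hv] using hyu j
    · simpa [hv] using huy i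
    · have hij' : i ≠ j := fun h => hij (by rw [h])
      simpa [hv] using huu i j hij'

end finite

end quad2

end Cfsg.Agent.Lib.Helper99
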