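import Mathlib
import Cfsg.Agent.Lib.Helper99.NdGeom

/-!
# Isometries with scalar square and invariant nondegenerate subspaces
-/

set_option autoImplicit false

namespace Cfsg.Agent.Lib.Helper99

open Module

universe u v

section NdInv
variable {F : Type u} [Field F] {V : Type v} [AddCommGroup V] [Module F V]

theorem ng_inv_sup (f : V →ₗ[F] V) (P W : Submodule F V) (hP : P.map f ≤ P)
    (hW : W.map f ≤ W) : (P ⊔ W).map f ≤ P ⊔ W := by
  rw [Submodule.map_sup]
  exact sup_le_sup hP hW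

theorem ng_inv_mem (f : V →ₗ[F] V) (U : Submodule F V) (hU : U.map f ≤ U) {x : V}
    (hx : x ∈ U) : f x ∈ U := hU (Submodule.mem_map_of_mem hx)

/-- Odd characteristic: an isometry whose square is `±1` has invariant nondegenerate
subspaces of every even dimension. -/
theorem nd_inv_odd [FiniteDimensional F V] (h2 : (2 : F) ≠ 0) (B : LinearMap.BilinForm F V)
    (hA : ∀ x, B x x = 0) (f : V →ₗ[F] V) (hf : ∀ x y, B (f x) (f y) = B x y) (z : F)
    (hz : z = 1 ∨ z = -1) (hff : ∀ x, f (f x) = z • x) (U : Submodule F V)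
    (hU : U.map f ≤ U) (hUn : NgNd B U) (n : ℕ) (hn : 2 * n ≤ finrank F ↥U) :
    ∃ W, W ≤ U ∧ W.map f ≤ W ∧ NgNd B W ∧ finrank F ↥W = 2 * n := by
  have hz0 : z ≠ 0 := by
    rcases hz with rfl | rfl
    · exact one_ne_zero
    · exact neg_ne_zero.mpr one_ne_zero
  have hinj : Function.Injective f := by
    intro x y hxy
    have h1 : z • x = z • y := by rw [← hff, ← hff, hxy]
    exact smul_right_injective V hz0 h1
  refine ng_peel B hA (fun W => W.map f ≤ W) (by rw [Submodule.map_bot])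
    (fun P W hP hW => ng_inv_sup f P W hP hW)
    (fun U' P hU' hP _ => ng_perp_map B f hf hinj U' P hU' hP) 2 (by norm_num) ?_ U hU hUn n hn
  intro U' hU' hU'n hne
  rcases hz with rfl | rfl
  · -- `f ^ 2 = 1`
    simp only [one_smul] at hff
    obtain ⟨u, hu, -, -, hu0, -⟩ := ng_exists_pair B U' hU'n hne
    obtain ⟨u₁, hu₁, hu₁0, ε, hε, hfu₁⟩ : ∃ u₁ ∈ U', u₁ ≠ 0 ∧ ∃ ε : F, ε * ε = 1 ∧
        f u₁ = ε • u₁ := by
      by_cases h : u + f u = 0
      · refine ⟨u, hu, hu0, -1, by ring, ?_⟩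
        rw [neg_smul, one_smul]
        exact eq_neg_of_add_eq_zero_right h
      · refine ⟨u + f u, U'.add_mem hu (ng_inv_mem f U' hU' hu), h, 1, by ring, ?_⟩
        rw [map_add, hff, one_smul, add_comm]
    obtain ⟨v, hv, huv⟩ : ∃ v ∈ U', B u₁ v ≠ 0 := by
      by_contra hcon
      apply hu₁0
      apply hU'n u₁ hu₁
      intro v hv
      by_contra h
      exact hcon ⟨v, hv, h⟩
    obtain ⟨v', hv'⟩ : ∃ v' : V, v' = v + ε • f v := ⟨_, rfl⟩
    have hv'U : v' ∈ U' := by
      rw [hv']
      exact U'.add_mem hv (U'.smul_mem ε (ng_inv_mem f U' hU' hv))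
    have hfv' : f v' = ε • v' := by
      rw [hv', map_add, map_smul, hff, smul_add, smul_smul, hε, one_smul, add_comm]
    have hu₁' : u₁ = ε • f u₁ := by
      rw [hfu₁, smul_smul, hε, one_smul]
    have hBv' : B u₁ v' = 2 * B u₁ v := by
      have h1 : B u₁ (f v) = ε * B u₁ v := by
        conv_lhs => rw [hu₁']
        rw [map_smul, LinearMap.smul_apply, hf, smul_eq_mul]
      rw [hv', map_add, map_smul, h1, smul_eq_mul, ← mul_assoc, hε]
      ring
    have hne' : B u₁ v' ≠ 0 := by
      rw [hBv']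
      exact mul_ne_zero h2 huv
    have hpl := ng_plane B hA u₁ v' hne'
    refine ⟨Submodule.span F {u₁, v'}, ng_span_pair_le U' hu₁ hv'U, ?_, hpl.1, hpl.2⟩
    rw [Submodule.map_span_le]
    intro x hx
    rcases hx with rfl | rfl
    · rw [hfu₁]
      exact Submodule.smul_mem _ _ (Submodule.subset_span (by simp))
    · rw [hfv']
      exact Submodule.smul_mem _ _ (Submodule.subset_span (by simp))
  · -- `f ^ 2 = -1`
    simp only [neg_smul, one_smul] at hff
    have hsym : ∀ x y, B x (f y) = B y (f x) := by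
      intro x y
      have h1 := hf x (f y)
      rw [hff, map_neg] at h1
      rw [ng_neg B hA y (f x), ← h1]
    obtain ⟨u₀, hu₀, v₀, hv₀, -, huv⟩ := ng_exists_pair B U' hU'n hne
    obtain ⟨w, hw⟩ : ∃ w : V, w = -f v₀ := ⟨_, rfl⟩
    have hwU : w ∈ U' := by
      rw [hw]
      exact U'.neg_mem (ng_inv_mem f U' hU' hv₀)
    have hfw : f w = v₀ := by rw [hw, map_neg, hff, neg_neg]
    obtain ⟨u, hu, hufu⟩ : ∃ u ∈ U', B u (f u) ≠ 0 := by
      by_cases h1 : B u₀ (f u₀) = 0
      · by_cases h3 : B w (f w) = 0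
        · refine ⟨u₀ + w, U'.add_mem hu₀ hwU, ?_⟩
          have h4 : B (u₀ + w) (f (u₀ + w)) = 2 * B u₀ v₀ := by
            simp only [map_add, LinearMap.add_apply]
            rw [h1, h3, hsym w u₀, hfw]
            ring
          rw [h4]
          exact mul_ne_zero h2 huv
        · exact ⟨w, hwU, h3⟩
      · exact ⟨u₀, hu₀, h1⟩
    have hpl := ng_plane B hA u (f u) hufu
    refine ⟨Submodule.span F {u, f u}, ng_span_pair_le U' hu (ng_inv_mem f U' hU' hu), ?_,
      hpl.1, hpl.2⟩
    rw [Submodule.map_span_le]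
    intro x hx
    rcases hx with rfl | rfl
    · exact Submodule.subset_span (by simp)
    · rw [hff]
      exact Submodule.neg_mem _ (Submodule.subset_span (by simp))

end NdInv

end Cfsg.Agent.Lib.Helper99
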