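import Mathlib
import Cfsg.Agent.Lib.Helper99.NsMinusB

/-! The field model: on `K = F_{q^{2d}}` the form `v ↦ Tr(ζ v σ(v))`, `σ = Frob^d`, is a
nondegenerate quadratic form preserved by multiplication by `ζ` when `ζ σ(ζ) = 1`; transported
to the standard minus-type form this gives an element of `Ω⁻` of odd prime order `r ∣ q^d + 1`
without non-zero fixed vectors. -/

set_option autoImplicit false

namespace Cfsg.Agent.Lib.Helper99

open Matrix Module Cfsg.Agent.Lib.Helper14

section nsmC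

variable {F : Type*} [Field F] [Fintype F]

theorem nsm_witness (h2 : (2 : F) = 0) {p : ℕ} [Fact p.Prime] [CharP F p] (hp : p = 2)
    (d : ℕ) (hd : 3 ≤ d) (a b : F)
    (hab : ∀ x y : F, x ^ 2 + a * x * y + b * y ^ 2 = 0 → x = 0 ∧ y = 0)
    (r : ℕ) (hr : r.Prime) (hr2 : r ≠ 2) (hrd : r ∣ Fintype.card F ^ d + 1) :
    ∃ x : GL ((Fin (d - 1) ⊕ Fin (d - 1)) ⊕ Fin 2) F,
      x ∈ Cfsg.Geo.omegaGL (Cfsg.quadFormMinus (d - 1) F a b) ∧
      ((x ^ r : GL ((Fin (d - 1) ⊕ Fin (d - 1)) ⊕ Fin 2) F) :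
        Matrix ((Fin (d - 1) ⊕ Fin (d - 1)) ⊕ Fin 2) ((Fin (d - 1) ⊕ Fin (d - 1)) ⊕ Fin 2) F) = 1 ∧
      (∀ u, Cfsg.quadFormMinus (d - 1) F a b
        ((x : Matrix ((Fin (d - 1) ⊕ Fin (d - 1)) ⊕ Fin 2) ((Fin (d - 1) ⊕ Fin (d - 1)) ⊕ Fin 2) F)
          *ᵥ u) = Cfsg.quadFormMinus (d - 1) F a b u) ∧
      (∀ v, (x : Matrix ((Fin (d - 1) ⊕ Fin (d - 1)) ⊕ Fin 2)
        ((Fin (d - 1) ⊕ Fin (d - 1)) ⊕ Fin 2) F) *ᵥ v = v →
        Cfsg.quadFormMinus (d - 1) F a b v = 0) := by
  classical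
  have hdz : NeZero (2 * d) := ⟨by omega⟩
  let K := FiniteField.Extension F p (2 * d)
  have hfin : Module.finrank F K = 2 * d := FiniteField.finrank_extension F p (2 * d)
  have : Fintype K := Fintype.ofFinite K
  have hcardK : Fintype.card K = Fintype.card F ^ (2 * d) := by
    rw [← Nat.card_eq_fintype_card, FiniteField.natCard_extension, Nat.card_eq_fintype_card]
  let σh : K →ₐ[F] K := (FiniteField.frobeniusAlgHom F K) ^ d
  have hσh : ∀ v : K, σh v = v ^ (Fintype.card F ^ d) := by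
    intro v
    show ((FiniteField.frobeniusAlgHom F K) ^ d) v = _
    rw [AlgHom.coe_pow, FiniteField.coe_frobeniusAlgHom, pow_iterate]
  have hinv : ∀ v : K, σh (σh v) = v := by
    intro v
    rw [hσh, hσh, ← pow_mul, ← pow_add, ← two_mul, ← hcardK, FiniteField.pow_card]
  let σ : K ≃ₐ[F] K := AlgEquiv.ofBijective σh (Function.Involutive.bijective hinv)
  have hσ : ∀ v, σ v = v ^ (Fintype.card F ^ d) := fun v => hσh v
  have hσσ : ∀ v, σ (σ v) = v := fun v => hinv v
  have hcardU : Nat.card Kˣ = Fintype.card F ^ (2 * d) - 1 := by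
    rw [Nat.card_eq_fintype_card, Fintype.card_units, hcardK]
  have hdvdU : r ∣ Nat.card Kˣ := by
    rw [hcardU]
    have h1 : 1 ≤ Fintype.card F ^ d := Nat.one_le_pow _ _ Fintype.card_pos
    obtain ⟨t, ht⟩ : ∃ t, Fintype.card F ^ d = t + 1 := ⟨_, (Nat.sub_add_cancel h1).symm⟩
    have h3 : Fintype.card F ^ (2 * d) - 1 = t * (Fintype.card F ^ d + 1) := by
      rw [two_mul, pow_add, ht]
      have : (t + 1) * (t + 1) = t * (t + 1 + 1) + 1 := by ring
      rw [this, Nat.add_sub_cancel]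
    rw [h3]
    exact Dvd.dvd.mul_left hrd _
  have hrf : Fact r.Prime := ⟨hr⟩
  obtain ⟨ζ, hζ⟩ := exists_prime_orderOf_dvd_card' r hdvdU
  have hζ1 : (ζ : K) ≠ 1 := by
    intro h
    have h1 : ζ = 1 := Units.ext h
    rw [h1, orderOf_one] at hζ
    exact hr.one_lt.ne hζ
  have hζr : ζ ^ r = 1 := by rw [← hζ, pow_orderOf_eq_one]
  have hζq : (ζ : K) ^ (Fintype.card F ^ d + 1) = 1 := by
    obtain ⟨m, hm⟩ := hrd
    rw [hm, pow_mul, ← Units.val_pow_eq_pow_val, hζr, Units.val_one, one_pow]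
  have hζσ : (ζ : K) * σ ζ = 1 := by rw [hσ, ← pow_succ', hζq]
  have h2K : (2 : K) = 0 := by
    rw [← map_ofNat (algebraMap F K) 2, h2, map_zero]
  have hγ : (ζ : K) + σ ζ ≠ 0 := by
    intro h
    have h3 : ((ζ : K) + 1) * ((ζ : K) + 1) = 0 := by
      have h4 : ((ζ : K) + σ ζ) * ζ = 0 := by rw [h, zero_mul]
      linear_combination h4 - hζσ + (ζ : K) * h2K
    have h4 := mul_self_eq_zero.mp h3
    apply hζ1
    linear_combination h4 - h2K
  let B₀ : K →ₗ[F] K →ₗ[F] F := LinearMap.mk₂ F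
    (fun u v => Algebra.trace F K ((ζ : K) * u * σ v))
    (fun u₁ u₂ v => by simp only [mul_add, add_mul, map_add])
    (fun c u v => by rw [mul_smul_comm, smul_mul_assoc, map_smul])
    (fun u v₁ v₂ => by simp only [map_add, mul_add])
    (fun c u v => by rw [map_smul, mul_smul_comm, map_smul])
  let Q : QuadraticForm F K := LinearMap.BilinMap.toQuadraticMap B₀
  have hQapp : ∀ v : K, Q v = Algebra.trace F K ((ζ : K) * v * σ v) := fun v => rfl
  have hpolar : ∀ u v : K, QuadraticMap.polar Q u v =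
      Algebra.trace F K (((ζ : K) + σ ζ) * u * σ v) := by
    intro u v
    have h1 : QuadraticMap.polar Q u v = B₀ u v + B₀ v u :=
      LinearMap.BilinMap.polar_toQuadraticMap (B := B₀) u v
    have h3 : B₀ u v = Algebra.trace F K ((ζ : K) * u * σ v) := rfl
    have h4 : B₀ v u = Algebra.trace F K (σ ζ * σ v * u) := by
      have h5 : B₀ v u = Algebra.trace F K ((ζ : K) * v * σ u) := rfl
      rw [h5, ← Algebra.trace_eq_of_algEquiv σ, map_mul σ, map_mul σ, hσσ]
    rw [h1, h3, h4, ← map_add]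
    congr 1
    ring
  have htr := traceForm_nondegenerate F K
  have hQnd : (QuadraticMap.polarBilin Q).Nondegenerate := by
    constructor
    · intro u hu
      have h1 : ((ζ : K) + σ ζ) * u = 0 := htr.1 _ (fun w => by
        have h3 := hu (σ w)
        rw [QuadraticMap.polarBilin_apply_apply, hpolar, hσσ] at h3
        rw [Algebra.traceForm_apply]
        exact h3)
      exact (mul_eq_zero.mp h1).resolve_left hγ
    · intro v hv
      have h1 : ((ζ : K) + σ ζ) * σ v = 0 := htr.2 _ (fun w => by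
        have h3 := hv w
        rw [QuadraticMap.polarBilin_apply_apply, hpolar] at h3
        rw [Algebra.traceForm_apply, ← h3]
        congr 1
        ring)
      have h3 := (mul_eq_zero.mp h1).resolve_left hγ
      exact (map_eq_zero_iff σ σ.injective).mp h3
  let g : (Module.End F K)ˣ := Units.map (Algebra.lmul F K : K →* Module.End F K) ζ
  have hg : ∀ v : K, (g : Module.End F K) v = (ζ : K) * v := fun v => rfl
  have hgr : g ^ r = 1 := by
    show (Units.map (Algebra.lmul F K : K →* Module.End F K) ζ) ^ r = 1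
    rw [← map_pow, hζr, map_one]
  have hgQ : ∀ v, Q ((g : Module.End F K) v) = Q v := by
    intro v
    rw [hg, hQapp, hQapp, map_mul σ]
    congr 1
    linear_combination ((ζ : K) * v * σ v) * hζσ
  have hgfix : ∀ v, (g : Module.End F K) v = v → v = 0 := by
    intro v hv
    rw [hg] at hv
    have h1 : ((ζ : K) - 1) * v = 0 := by linear_combination hv
    exact (mul_eq_zero.mp h1).resolve_left (sub_ne_zero.mpr hζ1)
  exact nsm_transport h2 hp Q hQnd d hd hfin a b hab r hr hr2 hrd g hgr hgQ hgfix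

end nsmC

end Cfsg.Agent.Lib.Helper99
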