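import Mathlib
import Cfsg.Prelude.Def_Classical
import Cfsg.Prelude.Def_GeometricClasses

/-!
# The number of totally singular `m`-spaces is `≡ 1` modulo the characteristic

Generic lemma `pcount_generic`: for a quadratic form `Q` on `ι → F` (finite field of
characteristic `p`) with nondegenerate polar form, a totally singular `m`-space `W₀` and a
vector `a ∈ W₀^⊥` with `Q a ≠ 0`, the number of totally singular `m`-spaces is `≡ 1 (mod p)`.
Proof: the group of isometries acting trivially on `W₀`, `W₀^⊥/W₀`, `V/W₀^⊥` is a `p`-group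
whose only fixed point on the totally singular `m`-spaces is `W₀` (Siegel elements).
-/

set_option autoImplicit false
open scoped MatrixGroups
open Matrix

namespace Cfsg.Agent.Lib.Helper99.PCount

universe u

section generic

variable {F : Type u} [Field F] {ι : Type} [Fintype ι] [DecidableEq ι]

/-- The Siegel map `z ↦ z + B(v,z) u - B(u,z) v - Q(v) B(u,z) u`. -/
noncomputable def siegelLin (Q : QuadraticForm F (ι → F)) (u v : ι → F) :
    (ι → F) →ₗ[F] (ι → F) :=
  LinearMap.id + (QuadraticMap.polarBilin Q v).smulRight u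
    - (QuadraticMap.polarBilin Q u).smulRight v
    - (Q v) • (QuadraticMap.polarBilin Q u).smulRight u

theorem siegelLin_apply (Q : QuadraticForm F (ι → F)) (u v z : ι → F) :
    siegelLin Q u v z = z + QuadraticMap.polar Q v z • u - QuadraticMap.polar Q u z • v
      - (Q v * QuadraticMap.polar Q u z) • u := by
  simp [siegelLin, mul_smul]

theorem siegelLin_isom (Q : QuadraticForm F (ι → F)) (u v : ι → F) (hu : Q u = 0)
    (huv : QuadraticMap.polar Q u v = 0) (z : ι → F) : Q (siegelLin Q u v z) = Q z := by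
  have e : siegelLin Q u v z = z + ((QuadraticMap.polar Q v z - Q v * QuadraticMap.polar Q u z) • u
      + (- QuadraticMap.polar Q u z) • v) := by
    rw [siegelLin_apply]; module
  rw [e, QuadraticMap.map_add Q, QuadraticMap.map_add Q, QuadraticMap.map_smul, QuadraticMap.map_smul,
    hu, QuadraticMap.polar_add_right, QuadraticMap.polar_smul_right, QuadraticMap.polar_smul_right,
    QuadraticMap.polar_smul_left, QuadraticMap.polar_smul_right, huv]
  simp only [smul_eq_mul]
  rw [QuadraticMap.polar_comm Q z u, QuadraticMap.polar_comm Q z v]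
  ring

theorem siegelLin_comp (Q : QuadraticForm F (ι → F)) (u v : ι → F) (hu : Q u = 0)
    (huv : QuadraticMap.polar Q u v = 0) :
    (siegelLin Q u (-v)).comp (siegelLin Q u v) = LinearMap.id := by
  apply LinearMap.ext
  intro z
  have huu : QuadraticMap.polar Q u u = 0 := by
    have := QuadraticMap.polar_self Q u
    rw [this, hu]; simp
  have hvv : QuadraticMap.polar Q v v = 2 * Q v := by
    have := QuadraticMap.polar_self Q v
    rw [this]; simp
  have hvu : QuadraticMap.polar Q v u = 0 := by rw [QuadraticMap.polar_comm]; exact huv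
  rw [LinearMap.comp_apply, siegelLin_apply Q u (-v), siegelLin_apply Q u v]
  simp only [QuadraticMap.polar_neg_left, QuadraticMap.map_neg, LinearMap.id_apply,
    QuadraticMap.polar_add_right, QuadraticMap.polar_sub_right, QuadraticMap.polar_smul_right,
    huu, hvv, huv, hvu, smul_eq_mul]
  module

end generic

section main

variable {F : Type u} [Field F] {ι : Type} [Fintype ι] [DecidableEq ι]

theorem gl_inj (g : GL ι F) : Function.Injective (Matrix.toLin' (g : Matrix ι ι F)) := by
  intro v w h
  simp only [Matrix.toLin'_apply] at h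
  have h2 := congrArg (fun z => ((g⁻¹ : GL ι F) : Matrix ι ι F) *ᵥ z) h
  simp only [Matrix.mulVec_mulVec] at h2
  rw [← Units.val_mul, inv_mul_cancel] at h2
  simpa using h2

/-- `M - 1` maps `V` into `A`, `A` into `B` and kills `B`. -/
def Cond (A B : Submodule F (ι → F)) (M : Matrix ι ι F) : Prop :=
  (∀ z, M *ᵥ z - z ∈ A) ∧ (∀ z ∈ A, M *ᵥ z - z ∈ B) ∧ (∀ z ∈ B, M *ᵥ z = z)

theorem cond_one (A B : Submodule F (ι → F)) : Cond A B (1 : Matrix ι ι F) :=
  ⟨fun z => by simp, fun z _ => by simp, fun z _ => by simp⟩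

theorem cond_mul {A B : Submodule F (ι → F)} (hBA : B ≤ A) {M N : Matrix ι ι F}
    (hM : Cond A B M) (hN : Cond A B N) : Cond A B (M * N) := by
  refine ⟨fun z => ?_, fun z hz => ?_, fun z hz => ?_⟩
  · have e : (M * N) *ᵥ z - z = (M *ᵥ (N *ᵥ z - z) - (N *ᵥ z - z)) + (N *ᵥ z - z)
        + (M *ᵥ z - z) := by
      rw [← Matrix.mulVec_mulVec, Matrix.mulVec_sub]; abel
    rw [e]
    exact A.add_mem (A.add_mem (hM.1 _) (hN.1 z)) (hM.1 z)
  · have e : (M * N) *ᵥ z - z = M *ᵥ (N *ᵥ z - z) + (M *ᵥ z - z) := by
      rw [← Matrix.mulVec_mulVec, Matrix.mulVec_sub]; abel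
    rw [e, hM.2.2 _ (hN.2.1 z hz)]
    exact B.add_mem (hN.2.1 z hz) (hM.2.1 z hz)
  · rw [← Matrix.mulVec_mulVec, hN.2.2 z hz, hM.2.2 z hz]

theorem cond_cube {A B : Submodule F (ι → F)} {M : Matrix ι ι F} (hM : Cond A B M) :
    (M - 1) ^ 3 = 0 := by
  have h1 : ∀ z, (M - 1) *ᵥ z = M *ᵥ z - z := fun z => by
    rw [Matrix.sub_mulVec, Matrix.one_mulVec]
  apply Matrix.toLin'.injective
  apply LinearMap.ext
  intro z
  rw [Matrix.toLin'_apply, map_zero, LinearMap.zero_apply, pow_succ, pow_succ, pow_one,
    ← Matrix.mulVec_mulVec, ← Matrix.mulVec_mulVec]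
  simp only [h1]
  exact sub_eq_zero.mpr (hM.2.2 _ (hM.2.1 _ (hM.1 z)))

/-- The isometries acting trivially on the sections of the flag `0 ≤ B ≤ A ≤ V`. -/
def flagGroup (Q : (ι → F) → F) (A B : Submodule F (ι → F)) (hBA : B ≤ A) :
    Subgroup (GL ι F) where
  carrier := {g | (∀ v, Q ((g : Matrix ι ι F) *ᵥ v) = Q v) ∧ Cond A B (g : Matrix ι ι F) ∧
    Cond A B ((g⁻¹ : GL ι F) : Matrix ι ι F)}
  mul_mem' := by
    rintro g h ⟨hg1, hg2, hg3⟩ ⟨hh1, hh2, hh3⟩
    refine ⟨fun v => ?_, ?_, ?_⟩
    · rw [Units.val_mul, ← Matrix.mulVec_mulVec, hg1, hh1]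
    · rw [Units.val_mul]; exact cond_mul hBA hg2 hh2
    · rw [_root_.mul_inv_rev, Units.val_mul]; exact cond_mul hBA hh3 hg3
  one_mem' := ⟨fun v => by simp, by simpa using cond_one A B, by simpa using cond_one A B⟩
  inv_mem' := by
    rintro g ⟨hg1, hg2, hg3⟩
    refine ⟨fun v => ?_, hg3, by rwa [inv_inv]⟩
    have := hg1 (((g⁻¹ : GL ι F) : Matrix ι ι F) *ᵥ v)
    rw [Matrix.mulVec_mulVec, ← Units.val_mul, mul_inv_cancel] at this
    simpa using this.symm

theorem flagGroup_isPGroup {p : ℕ} [Fact p.Prime] [CharP F p] (Q : (ι → F) → F)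
    (A B : Submodule F (ι → F)) (hBA : B ≤ A) : IsPGroup p (flagGroup Q A B hBA) := by
  intro g
  refine ⟨2, ?_⟩
  apply Subtype.ext
  apply Units.ext
  rcases isEmpty_or_nonempty ι with hι | hι
  · exact Subsingleton.elim _ _
  have hc := cond_cube g.2.2.1
  have hp : 3 ≤ p ^ 2 := by
    have := (Fact.out : p.Prime).two_le
    nlinarith
  have h0 : (((g : GL ι F) : Matrix ι ι F) - 1) ^ (p ^ 2) = 0 := by
    rw [← Nat.sub_add_cancel hp, pow_add, hc, mul_zero]
  rw [sub_pow_char_pow_of_commute p 2 (Commute.one_right _), one_pow, sub_eq_zero] at h0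
  simpa using h0

/-- The action of a group of isometries on the totally singular `m`-spaces. -/
noncomputable def tsAct (Q : (ι → F) → F) (m : ℕ) (T : Subgroup (GL ι F))
    (hT : ∀ g ∈ T, ∀ v, Q ((g : Matrix ι ι F) *ᵥ v) = Q v) :
    MulAction T {W : Submodule F (ι → F) // Module.finrank F ↥W = m ∧ ∀ w ∈ W, Q w = 0} where
  smul g W := ⟨W.1.map (Matrix.toLin' ((g : GL ι F) : Matrix ι ι F)), by
      exact ((LinearEquiv.finrank_eq (Submodule.equivMapOfInjective _ (gl_inj g.1) W.1)).symm).trans
        W.2.1,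
    by
      rintro w ⟨w0, hw0, rfl⟩
      rw [Matrix.toLin'_apply, hT g.1 g.2]
      exact W.2.2 w0 hw0⟩
  one_smul W := by
    apply Subtype.ext
    show Submodule.map (Matrix.toLin' (((1 : T) : GL ι F) : Matrix ι ι F)) W.1 = W.1
    simp
  mul_smul g h W := by
    apply Subtype.ext
    show Submodule.map (Matrix.toLin' (((g * h : T) : GL ι F) : Matrix ι ι F)) W.1 =
      Submodule.map (Matrix.toLin' ((g : GL ι F) : Matrix ι ι F))
        (Submodule.map (Matrix.toLin' ((h : GL ι F) : Matrix ι ι F)) W.1)
    rw [← Submodule.map_comp, ← Matrix.toLin'_mul]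
    rfl

/-- **Generic count.** If `W₀` is a totally singular `m`-space of a quadratic form with
nondegenerate polar form and `W₀^⊥` contains a non-singular vector, then the number of totally
singular `m`-spaces is `≡ 1` modulo the characteristic. -/
theorem pcount_generic [Fintype F] {p : ℕ} [Fact p.Prime] [CharP F p]
    (Q : QuadraticForm F (ι → F))
    (hQ : (QuadraticMap.polarBilin Q).Nondegenerate) (m : ℕ) (W₀ : Submodule F (ι → F))
    (hW₀ : Module.finrank F W₀ = m) (hts : ∀ w ∈ W₀, Q w = 0) (a : ι → F)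
    (ha : ∀ w ∈ W₀, QuadraticMap.polar Q w a = 0) (haQ : Q a ≠ 0) :
    Nat.card {W : Submodule F (ι → F) // Module.finrank F ↥W = m ∧ ∀ w ∈ W, Q w = 0}
      ≡ 1 [MOD p] := by
  classical
  set B : LinearMap.BilinForm F (ι → F) := QuadraticMap.polarBilin Q with hB
  have hBref : B.IsRefl := by
    intro x y h
    show QuadraticMap.polar Q y x = 0
    rw [QuadraticMap.polar_comm]
    exact h
  set A : Submodule F (ι → F) := B.orthogonal W₀ with hA
  have hmemA : ∀ z, z ∈ A ↔ ∀ w ∈ W₀, QuadraticMap.polar Q w z = 0 := fun z => by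
    rw [hA, LinearMap.BilinForm.mem_orthogonal_iff]
    rfl
  have hBA : W₀ ≤ A := by
    intro z hz
    rw [hmemA]
    intro w hw
    unfold QuadraticMap.polar
    rw [hts _ (W₀.add_mem hw hz), hts w hw, hts z hz]
    ring
  let T := flagGroup (⇑Q) A W₀ hBA
  have hTisom : ∀ g ∈ T, ∀ v, Q ((g : Matrix ι ι F) *ᵥ v) = Q v := fun g hg => hg.1
  letI := tsAct (⇑Q) m T hTisom
  have hfinS : Finite (Submodule F (ι → F)) :=
    Finite.of_injective (fun W : Submodule F (ι → F) => (W : Set (ι → F))) SetLike.coe_injective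
  have key := (flagGroup_isPGroup (p := p) (⇑Q) A W₀ hBA).card_modEq_card_fixedPoints
    {W : Submodule F (ι → F) // Module.finrank F ↥W = m ∧ ∀ w ∈ W, Q w = 0}
  have hfix : MulAction.fixedPoints T
      {W : Submodule F (ι → F) // Module.finrank F ↥W = m ∧ ∀ w ∈ W, Q w = 0} =
      {⟨W₀, hW₀, hts⟩} := by
    have hsieg : ∀ u ∈ W₀, ∀ v ∈ A, ∃ g ∈ T, ∀ z, (g : Matrix ι ι F) *ᵥ z = siegelLin Q u v z := by
      intro u hu v hv
      have huQ := hts u hu
      have huv : QuadraticMap.polar Q u v = 0 := (hmemA v).1 hv u hu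
      have huv' : QuadraticMap.polar Q u (-v) = 0 := by
        rw [QuadraticMap.polar_neg_right, huv, neg_zero]
      have hc1 := siegelLin_comp Q u v huQ huv
      have hc2 := siegelLin_comp Q u (-v) huQ huv'
      rw [neg_neg] at hc2
      let g : GL ι F := ⟨LinearMap.toMatrix' (siegelLin Q u v),
        LinearMap.toMatrix' (siegelLin Q u (-v)),
        by rw [← LinearMap.toMatrix'_comp, hc2, LinearMap.toMatrix'_id],
        by rw [← LinearMap.toMatrix'_comp, hc1, LinearMap.toMatrix'_id]⟩
      have hg : ∀ z, (g : Matrix ι ι F) *ᵥ z = siegelLin Q u v z :=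
        fun z => LinearMap.toMatrix'_mulVec _ _
      have hginv : ∀ z, ((g⁻¹ : GL ι F) : Matrix ι ι F) *ᵥ z = siegelLin Q u (-v) z :=
        fun z => LinearMap.toMatrix'_mulVec _ _
      have hcond : ∀ v' ∈ A, ∀ (M : Matrix ι ι F), (∀ z, M *ᵥ z = siegelLin Q u v' z) →
          Cond A W₀ M := by
        intro v' hv' M hM
        have huv'' : ∀ w ∈ W₀, QuadraticMap.polar Q w v' = 0 := (hmemA v').1 hv'
        refine ⟨fun z => ?_, fun z hz => ?_, fun z hz => ?_⟩
        · rw [hM, siegelLin_apply]
          have : z + QuadraticMap.polar Q v' z • u - QuadraticMap.polar Q u z • v'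
              - (Q v' * QuadraticMap.polar Q u z) • u - z
              = (QuadraticMap.polar Q v' z - Q v' * QuadraticMap.polar Q u z) • u
                + (- QuadraticMap.polar Q u z) • v' := by module
          rw [this]
          exact A.add_mem (A.smul_mem _ (hBA hu)) (A.smul_mem _ hv')
        · rw [hM, siegelLin_apply]
          have h0 : QuadraticMap.polar Q u z = 0 := (hmemA z).1 hz u hu
          rw [h0]
          have : z + QuadraticMap.polar Q v' z • u - (0 : F) • v' - (Q v' * 0) • u - z
              = QuadraticMap.polar Q v' z • u := by module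
          rw [this]
          exact W₀.smul_mem _ hu
        · rw [hM, siegelLin_apply]
          have h0 : QuadraticMap.polar Q u z = 0 := (hmemA z).1 (hBA hz) u hu
          have h1 : QuadraticMap.polar Q v' z = 0 := by
            rw [QuadraticMap.polar_comm]; exact huv'' z hz
          rw [h0, h1]
          module
      refine ⟨g, ⟨fun z => ?_, hcond v hv _ hg, hcond (-v) (A.neg_mem hv) _ hginv⟩, hg⟩
      rw [hg]
      exact siegelLin_isom Q u v huQ huv z
    ext W
    simp only [MulAction.mem_fixedPoints, Set.mem_singleton_iff]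
    constructor
    · intro hW
      have hinv : ∀ g ∈ T, ∀ z ∈ W.1, (g : Matrix ι ι F) *ᵥ z ∈ W.1 := by
        intro g hg z hz
        have h2 : Submodule.map (Matrix.toLin' (g : Matrix ι ι F)) W.1 = W.1 :=
          congrArg Subtype.val (hW ⟨g, hg⟩)
        rw [← h2]
        exact ⟨z, hz, Matrix.toLin'_apply _ _⟩
      apply Subtype.ext
      show W.1 = W₀
      by_cases hcase : ∃ z ∈ W.1, ∃ u₀ ∈ W₀, QuadraticMap.polar Q u₀ z ≠ 0
      · exfalso
        obtain ⟨z, hz, u₀, hu₀, hne⟩ := hcase
        have haA : a ∈ A := (hmemA a).2 ha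
        obtain ⟨g, hgT, hg⟩ := hsieg u₀ hu₀ a haA
        have h1 := hinv g hgT z hz
        rw [hg, siegelLin_apply] at h1
        have h2 : (QuadraticMap.polar Q a z - Q a * QuadraticMap.polar Q u₀ z) • u₀
            + (- QuadraticMap.polar Q u₀ z) • a ∈ W.1 := by
          have := W.1.sub_mem h1 hz
          convert this using 1
          module
        have h3 := W.2.2 _ h2
        rw [QuadraticMap.map_add Q, QuadraticMap.map_smul, QuadraticMap.map_smul, hts u₀ hu₀,
          QuadraticMap.polar_smul_left, QuadraticMap.polar_smul_right, ha u₀ hu₀] at h3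
        simp only [smul_eq_mul, mul_zero, zero_add, add_zero] at h3
        rcases mul_eq_zero.mp h3 with h | h
        · rcases mul_eq_zero.mp h with h | h <;> exact hne (neg_eq_zero.mp h)
        · exact haQ h
      · have hWA : W.1 ≤ A := by
          intro z hz
          rw [hmemA]
          intro u hu
          by_contra hne
          exact hcase ⟨z, hz, u, hu, hne⟩
        by_cases hle : W.1 ≤ W₀
        · exact Submodule.eq_of_le_of_finrank_eq hle (by rw [W.2.1, hW₀])
        · obtain ⟨z, hz, hzW₀⟩ := SetLike.not_le_iff_exists.mp hle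
          have hzA := hWA hz
          have hoo : B.orthogonal A = W₀ :=
            LinearMap.BilinForm.orthogonal_orthogonal hQ hBref W₀
          have hex : ∃ v ∈ A, QuadraticMap.polar Q v z ≠ 0 := by
            by_contra hcon
            apply hzW₀
            rw [← hoo, LinearMap.BilinForm.mem_orthogonal_iff]
            intro v hv
            by_contra hne
            exact hcon ⟨v, hv, hne⟩
          obtain ⟨v, hv, hvz⟩ := hex
          have hW₀W : W₀ ≤ W.1 := by
            intro u hu
            obtain ⟨g, hgT, hg⟩ := hsieg u hu v hv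
            have h1 := hinv g hgT z hz
            rw [hg, siegelLin_apply, (hmemA z).1 hzA u hu] at h1
            have h2 : QuadraticMap.polar Q v z • u ∈ W.1 := by
              have := W.1.sub_mem h1 hz
              convert this using 1
              module
            have := W.1.smul_mem (QuadraticMap.polar Q v z)⁻¹ h2
            rwa [smul_smul, inv_mul_cancel₀ hvz, one_smul] at this
          exact (Submodule.eq_of_le_of_finrank_eq hW₀W (by rw [W.2.1, hW₀])).symm
    · rintro rfl g
      apply Subtype.ext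
      show Submodule.map (Matrix.toLin' ((g : GL ι F) : Matrix ι ι F)) W₀ = W₀
      apply Submodule.eq_of_le_of_finrank_eq
      · rintro w ⟨w0, hw0, rfl⟩
        rw [Matrix.toLin'_apply, g.2.2.1.2.2 w0 hw0]
        exact hw0
      · exact (LinearEquiv.finrank_eq (Submodule.equivMapOfInjective _ (gl_inj g.1) W₀)).symm
  rw [hfix] at key
  simpa using key

end main

end Cfsg.Agent.Lib.Helper99.PCount
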